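import Cfsg.Agent.Lib.Cert.J3o.O0

set_option autoImplicit false
set_option maxRecDepth 100000

namespace Cfsg.Agent.Ct.J3o

open Cfsg.Agent.PC

theorem d0 : Nat.beq (rng f3 (nat_lit 0) (nat_lit 2000)) (nat_lit 0) = true := by decide +kernel
theorem d2000 : Nat.beq (rng f3 (nat_lit 2000) (nat_lit 2000)) (nat_lit 0) = true := by decide +kernel
theorem d4000 : Nat.beq (rng f3 (nat_lit 4000) (nat_lit 2000)) (nat_lit 0) = true := by decide +kernel
theorem d6000 : Nat.beq (rng f3 (nat_lit 6000) (nat_lit 2000)) (nat_lit 0) = true := by decide +kernel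
theorem d8000 : Nat.beq (rng f3 (nat_lit 8000) (nat_lit 2000)) (nat_lit 0) = true := by decide +kernel
theorem d10000 : Nat.beq (rng f3 (nat_lit 10000) (nat_lit 2000)) (nat_lit 0) = true := by decide +kernel
theorem d12000 : Nat.beq (rng f3 (nat_lit 12000) (nat_lit 2000)) (nat_lit 0) = true := by decide +kernel
theorem d14000 : Nat.beq (rng f3 (nat_lit 14000) (nat_lit 2000)) (nat_lit 0) = true := by decide +kernel
theorem d16000 : Nat.beq (rng f3 (nat_lit 16000) (nat_lit 2000)) (nat_lit 0) = true := by decide +kernel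
theorem d18000 : Nat.beq (rng f3 (nat_lit 18000) (nat_lit 2000)) (nat_lit 0) = true := by decide +kernel

end Cfsg.Agent.Ct.J3o
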