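import Cfsg.Agent.Lib.Cert.J3o.O0

set_option autoImplicit false
set_option maxRecDepth 100000

namespace Cfsg.Agent.Ct.J3o

open Cfsg.Agent.PC

theorem d20000 : Nat.beq (rng f3 (nat_lit 20000) (nat_lit 2000)) (nat_lit 0) = true := by decide +kernel
theorem d22000 : Nat.beq (rng f3 (nat_lit 22000) (nat_lit 2000)) (nat_lit 0) = true := by decide +kernel
theorem d24000 : Nat.beq (rng f3 (nat_lit 24000) (nat_lit 2000)) (nat_lit 0) = true := by decide +kernel
theorem d26000 : Nat.beq (rng f3 (nat_lit 26000) (nat_lit 162)) (nat_lit 0) = true := by decide +kernel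
theorem v1x0 : Nat.beq (rng u1 (nat_lit 0) (nat_lit 2500)) (nat_lit 0) = true := by decide +kernel
theorem v1x2500 : Nat.beq (rng u1 (nat_lit 2500) (nat_lit 2500)) (nat_lit 0) = true := by decide +kernel
theorem v1x5000 : Nat.beq (rng u1 (nat_lit 5000) (nat_lit 2500)) (nat_lit 0) = true := by decide +kernel
theorem v1x7500 : Nat.beq (rng u1 (nat_lit 7500) (nat_lit 2500)) (nat_lit 0) = true := by decide +kernel
theorem v1x10000 : Nat.beq (rng u1 (nat_lit 10000) (nat_lit 2500)) (nat_lit 0) = true := by decide +kernel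
theorem v1x12500 : Nat.beq (rng u1 (nat_lit 12500) (nat_lit 2500)) (nat_lit 0) = true := by decide +kernel

end Cfsg.Agent.Ct.J3o
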