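import Cfsg.Agent.Lib.Cert.J3o.O0

set_option autoImplicit false
set_option maxRecDepth 100000

namespace Cfsg.Agent.Ct.J3o

open Cfsg.Agent.PC

theorem v0x12500 : Nat.beq (rng u0 (nat_lit 12500) (nat_lit 2500)) (nat_lit 0) = true := by decide +kernel
theorem v0x15000 : Nat.beq (rng u0 (nat_lit 15000) (nat_lit 2500)) (nat_lit 0) = true := by decide +kernel
theorem v0x17500 : Nat.beq (rng u0 (nat_lit 17500) (nat_lit 2500)) (nat_lit 0) = true := by decide +kernel
theorem v0x20000 : Nat.beq (rng u0 (nat_lit 20000) (nat_lit 2500)) (nat_lit 0) = true := by decide +kernel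
theorem v0x22500 : Nat.beq (rng u0 (nat_lit 22500) (nat_lit 2500)) (nat_lit 0) = true := by decide +kernel
theorem v0x25000 : Nat.beq (rng u0 (nat_lit 25000) (nat_lit 1163)) (nat_lit 0) = true := by decide +kernel

end Cfsg.Agent.Ct.J3o
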